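import Groth.Prelude.Def_RelProj
import Groth.Agent.SymAlgRel.ProjBCRing
import Mathlib.AlgebraicGeometry.ProjectiveSpectrum.Functor
import Mathlib.AlgebraicGeometry.RelativeGluing

/-!
# Existence of the relative homogeneous spectrum
-/

set_option autoImplicit false

noncomputable section

set_option backward.isDefEq.respectTransparency false
set_option backward.isDefEq.respectTransparency.types false

universe u

open CategoryTheory CategoryTheory.Limits AlgebraicGeometry TopologicalSpace Opposite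
open HomogeneousLocalization
open scoped HomogeneousIdeal

namespace Groth.Agent.RelProjEx

variable {S : Scheme.{u}} (𝒮 : RelProj.QCGrAlg S)

abbrev Site (S : Scheme.{u}) := S.AffineZariskiSite

theorem aff (U : Site S) : IsAffineOpen U.1 := U.2

abbrev resSite {U V : Site S} (i : V ⟶ U) : 𝒮.deg U.1 U.2 →+*ᵍ 𝒮.deg V.1 V.2 :=
  𝒮.res U.2 V.2 (Scheme.AffineZariskiSite.toOpens_mono i.le)

theorem irr {U V : Site S} (i : V ⟶ U) :
    (𝒮.deg V.1 V.2)₊ ≤ ((𝒮.deg U.1 U.2)₊).map (resSite 𝒮 i) := by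
  obtain ⟨r, hr⟩ := i.le
  obtain ⟨V, hV⟩ := V
  dsimp only [Scheme.AffineZariskiSite.toOpens] at hr
  subst hr
  exact 𝒮.irrelevant_le_map U.1 U.2 r

/-- The homogeneous spectra over the affine opens. -/
def functor : Site S ⥤ Scheme.{u} where
  obj U := Proj (𝒮.deg U.1 U.2)
  map {V U} i := Proj.map (resSite 𝒮 i) (irr 𝒮 i)
  map_id U := by
    refine Eq.trans ?_ Proj.map_id
    congr 1
    exact GradedRingHom.ext fun x => (congr($(𝒮.presheaf.map_id (op U.1)) x) :)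
  map_comp {W V U} i j := by
    rw [← Proj.map_comp]
    congr 1
    refine GradedRingHom.ext fun x => ?_
    exact (congr($(𝒮.presheaf.map_comp (homOfLE (Scheme.AffineZariskiSite.toOpens_mono j.le)).op
      (homOfLE (Scheme.AffineZariskiSite.toOpens_mono i.le)).op) x) :)

/-- The projection of a chart. -/
def natApp (U : Site S) : Proj (𝒮.deg U.1 U.2) ⟶ (U.1 : Scheme.{u}) :=
  Proj.toSpecZero (𝒮.deg U.1 U.2) ≫ Spec.map (𝒮.strZero U.1 U.2) ≫ (aff U).isoSpec.inv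

/-- Scalars in a standard chart. -/
abbrev σ (U : Site S) (f : 𝒮.presheaf.obj (op U.1)) :
    S.presheaf.obj (op U.1) ⟶ CommRingCat.of (Away (𝒮.deg U.1 U.2) f) :=
  CommRingCat.ofHom (SymAlgRel.baseHom (𝒮.str.app (op U.1)).hom (𝒮.str_mem U.1 U.2) f)

theorem awayι_natApp (U : Site S) {d : ℕ} (hd : 0 < d) {f : 𝒮.presheaf.obj (op U.1)} (hf : f ∈ 𝒮.deg U.1 U.2 d) :
    Proj.awayι (𝒮.deg U.1 U.2) f hf hd ≫ natApp 𝒮 U ≫ U.1.ι = Spec.map (σ 𝒮 U f) ≫ (aff U).fromSpec := by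
  simp only [natApp, Category.assoc, IsAffineOpen.isoSpec_inv_ι]
  rw [Proj.awayι_toSpecZero_assoc, ← Spec.map_comp_assoc]
  rfl

theorem isPullback_away {U V : Site S} (i : V ⟶ U) {d : ℕ} {f : 𝒮.presheaf.obj (op U.1)}
    (hf : f ∈ 𝒮.deg U.1 U.2 d) :
    IsPullback (Spec.map (CommRingCat.ofHom (Away.map (resSite 𝒮 i) f))) (Spec.map (σ 𝒮 V (resSite 𝒮 i f)))
      (Spec.map (σ 𝒮 U f)) (Spec.map (S.presheaf.map (homOfLE (Scheme.AffineZariskiSite.toOpens_mono i.le)).op)) := by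
  refine (isPullback_SpecMap_of_isPushout _ _ _ _ (SymAlgRel.isPushout_away (𝒮.str.app (op U.1)).hom
    (𝒮.str_mem U.1 U.2) (𝒮.str.app (op V.1)).hom (𝒮.str_mem V.1 V.2)
    (S.presheaf.map (homOfLE (Scheme.AffineZariskiSite.toOpens_mono i.le)).op).hom (resSite 𝒮 i) (fun r => ?_)
    (𝒮.toQCAlg.coequifibered i.op) hf)).flip
  exact ConcreteCategory.congr_hom (𝒮.str.naturality (homOfLE (Scheme.AffineZariskiSite.toOpens_mono i.le)).op) r

theorem natApp_naturality {U V : Site S} (i : V ⟶ U) :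
    (functor 𝒮).map i ≫ natApp 𝒮 U = natApp 𝒮 V ≫ S.homOfLE (Scheme.AffineZariskiSite.toOpens_mono i.le) := by
  rw [← cancel_mono U.1.ι]
  refine (Proj.mapAffineOpenCover (resSite 𝒮 i) (irr 𝒮 i)).openCover.hom_ext _ _ fun s => ?_
  show Proj.awayι (𝒮.deg V.1 V.2) (resSite 𝒮 i s.2) _ _ ≫ _ = Proj.awayι (𝒮.deg V.1 V.2) (resSite 𝒮 i s.2) _ _ ≫ _
  simp only [Category.assoc, Scheme.homOfLE_ι]
  rw [awayι_natApp 𝒮 V (f := resSite 𝒮 i s.2) s.1.2 ((resSite 𝒮 i).map_mem s.2.2)]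
  show Proj.awayι (𝒮.deg V.1 V.2) (resSite 𝒮 i s.2) _ _ ≫ Proj.map (resSite 𝒮 i) (irr 𝒮 i) ≫ natApp 𝒮 U ≫ U.1.ι = _
  rw [Proj.awayι_comp_map_assoc (resSite 𝒮 i) (irr 𝒮 i) s.1.2 _ s.2.2, awayι_natApp 𝒮 U s.1.2 s.2.2,
    reassoc_of% (isPullback_away 𝒮 i s.2.2).w, IsAffineOpen.map_fromSpec (aff U) (aff V)]

theorem isOpenImmersion_away {U V : Site S} (i : V ⟶ U) {d : ℕ} {f : 𝒮.presheaf.obj (op U.1)}
    (hf : f ∈ 𝒮.deg U.1 U.2 d) :
    IsOpenImmersion (Spec.map (CommRingCat.ofHom (Away.map (resSite 𝒮 i) f))) := by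
  have h1 : Spec.map (S.presheaf.map (homOfLE (Scheme.AffineZariskiSite.toOpens_mono i.le)).op) ≫ (aff U).fromSpec =
      (aff V).fromSpec := IsAffineOpen.map_fromSpec (aff U) (aff V) _
  have : IsOpenImmersion (Spec.map (S.presheaf.map (homOfLE (Scheme.AffineZariskiSite.toOpens_mono i.le)).op) ≫
      (aff U).fromSpec) := h1 ▸ inferInstance
  have : IsOpenImmersion (Spec.map (S.presheaf.map (homOfLE (Scheme.AffineZariskiSite.toOpens_mono i.le)).op)) :=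
    IsOpenImmersion.of_comp _ (aff U).fromSpec
  exact MorphismProperty.of_isPullback (isPullback_away 𝒮 i hf).flip this

instance isOpenImmersion_map {U V : Site S} (i : V ⟶ U) :
    IsOpenImmersion (Proj.map (resSite 𝒮 i) (irr 𝒮 i)) := by
  let 𝒜 := 𝒮.deg U.1 U.2
  have hcov : ⨆ s : (Σ d : PNat, 𝒜 d), Proj.basicOpen 𝒜 (s.2 : 𝒮.presheaf.obj (op U.1)) = ⊤ := by
    rw [eq_top_iff]
    intro x _
    obtain ⟨s, z, hz⟩ : ∃ s z, (Proj.affineOpenCover 𝒜).f s z = x :=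
      ⟨_, (Proj.affineOpenCover 𝒜).covers x⟩
    refine Opens.mem_iSup.2 ⟨s, ?_⟩
    rw [← Proj.opensRange_awayι 𝒜 _ s.2.2 s.1.2]
    exact ⟨z, hz⟩
  refine (IsZariskiLocalAtTarget.iff_of_iSup_eq_top (P := @IsOpenImmersion) _ hcov).2 fun s => ?_
  have := isOpenImmersion_away 𝒮 i s.2.2
  let eV := Proj.basicOpenIsoSpec (𝒮.deg V.1 V.2) (resSite 𝒮 i (s.2 : 𝒮.presheaf.obj (op U.1))) ((resSite 𝒮 i).map_mem s.2.2) s.1.2
  let eU := Proj.basicOpenIsoSpec 𝒜 _ s.2.2 s.1.2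
  have key : Proj.map (resSite 𝒮 i) (irr 𝒮 i) ∣_ Proj.basicOpen 𝒜 (s.2 : 𝒮.presheaf.obj (op U.1)) =
      eV.hom ≫ Spec.map (CommRingCat.ofHom (Away.map (resSite 𝒮 i) (s.2 : 𝒮.presheaf.obj (op U.1)))) ≫ eU.inv := by
    rw [← cancel_mono (Proj.basicOpen 𝒜 (s.2 : 𝒮.presheaf.obj (op U.1))).ι, morphismRestrict_ι]
    simp only [Category.assoc, eU]
    rw [Proj.basicOpenIsoSpec_inv_ι,
      ← Proj.awayι_comp_map (resSite 𝒮 i) (irr 𝒮 i) s.1.2 _ s.2.2,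
      ← Proj.basicOpenIsoSpec_inv_ι, Category.assoc, Iso.hom_inv_id_assoc]
    rfl
  rw [key]
  infer_instance

theorem natApp_preimage {U V : Site S} (i : V ⟶ U) :
    natApp 𝒮 U ⁻¹ᵁ (S.homOfLE (Scheme.AffineZariskiSite.toOpens_mono i.le)).opensRange =
      (Proj.map (resSite 𝒮 i) (irr 𝒮 i)).opensRange := by
  refine le_antisymm (fun x hx => ?_) ?_
  · obtain ⟨s, z, rfl⟩ : ∃ s z, (Proj.affineOpenCover (𝒮.deg U.1 U.2)).f s z = x :=
      ⟨_, (Proj.affineOpenCover (𝒮.deg U.1 U.2)).covers x⟩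
    obtain ⟨y, hy⟩ := hx
    have hz : (aff U).fromSpec (Spec.map (σ 𝒮 U s.2) z) ∈ V.1 := by
      rw [← Scheme.Hom.comp_apply, ← awayι_natApp 𝒮 U s.1.2 s.2.2, Scheme.Hom.comp_apply, Scheme.Hom.comp_apply]
      erw [← hy]
      rw [← Scheme.Hom.comp_apply, Scheme.homOfLE_ι]
      exact y.2
    obtain ⟨w, hw⟩ : (aff U).fromSpec (Spec.map (σ 𝒮 U s.2) z) ∈ Set.range (aff V).fromSpec := by
      rw [(aff V).range_fromSpec]; exact hz
    rw [← IsAffineOpen.map_fromSpec (aff U) (aff V) (homOfLE (Scheme.AffineZariskiSite.toOpens_mono i.le)).op,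
      Scheme.Hom.comp_apply] at hw
    obtain ⟨t, ht, -⟩ := Scheme.exists_preimage_of_isPullback (isPullback_away 𝒮 i s.2.2) z w
      ((aff U).fromSpec.isOpenEmbedding.injective hw).symm
    refine ⟨Proj.awayι (𝒮.deg V.1 V.2) (resSite 𝒮 i s.2) ((resSite 𝒮 i).map_mem s.2.2) s.1.2 t, ?_⟩
    rw [← Scheme.Hom.comp_apply, Proj.awayι_comp_map (resSite 𝒮 i) (irr 𝒮 i) s.1.2 _ s.2.2,
      Scheme.Hom.comp_apply, ht]
    rfl
  · rintro _ ⟨x, rfl⟩
    refine ⟨natApp 𝒮 V x, ?_⟩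
    exact (congr($(natApp_naturality 𝒮 i) x)).symm

/-- The gluing datum. -/
def gd : (Scheme.AffineZariskiSite.directedCover S).RelativeGluingData where
  functor := functor 𝒮
  natTrans := { app := natApp 𝒮, naturality := fun _ _ i => natApp_naturality 𝒮 i }
  equifibered := fun V U i =>
    haveI : IsOpenImmersion ((functor 𝒮).map i) := isOpenImmersion_map 𝒮 i
    haveI : IsOpenImmersion (Proj.map (resSite 𝒮 i) (irr 𝒮 i)) := isOpenImmersion_map 𝒮 i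
    (IsOpenImmersion.isPullback (natApp 𝒮 V) ((functor 𝒮).map i)
      (S.homOfLE (Scheme.AffineZariskiSite.toOpens_mono i.le)) (natApp 𝒮 U)
      (natApp_naturality 𝒮 i) (natApp_preimage 𝒮 i)).flip

instance : ((gd 𝒮).functor ⋙ Scheme.forget).IsLocallyDirected :=
  Scheme.Cover.RelativeGluingData.instIsLocallyDirectedI₀CompFunctorForgetOfIsThin ..

/-- The relative homogeneous spectrum. -/
def proj : Scheme.{u} := (gd 𝒮).glued

/-- Its structure morphism. -/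
def toBase : proj 𝒮 ⟶ S := (gd 𝒮).toBase

/-- The charts. -/
def ι (U : Site S) : Proj (𝒮.deg U.1 U.2) ⟶ proj 𝒮 := (gd 𝒮).cover.f U

instance (U : Site S) : IsOpenImmersion (ι 𝒮 U) := (gd 𝒮).cover.map_prop _

theorem ι_toBase (U : Site S) : ι 𝒮 U ≫ toBase 𝒮 = natApp 𝒮 U ≫ U.1.ι := colimit.ι_desc _ _

theorem ι_res {U V : Site S} (i : V ⟶ U) : Proj.map (resSite 𝒮 i) (irr 𝒮 i) ≫ ι 𝒮 U = ι 𝒮 V :=
  colimit.w (gd 𝒮).functor i

theorem toBase_preimage (U : Site S) : toBase 𝒮 ⁻¹ᵁ U.1 = (ι 𝒮 U).opensRange := by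
  simpa using! (gd 𝒮).toBase_preimage_eq_opensRange_ι U

/-- The charts, as isomorphisms. -/
def chart (U : S.Opens) (hU : IsAffineOpen U) :
    ((toBase 𝒮 ⁻¹ᵁ U : (proj 𝒮).Opens) : Scheme.{u}) ≅ Proj (𝒮.deg U hU) :=
  IsOpenImmersion.isoOfRangeEq (toBase 𝒮 ⁻¹ᵁ U).ι (ι 𝒮 ⟨U, hU⟩) (by
    rw [Scheme.Opens.range_ι, toBase_preimage 𝒮 ⟨U, hU⟩]
    rfl)

theorem chart_hom_ι (U : S.Opens) (hU : IsAffineOpen U) :
    (chart 𝒮 U hU).hom ≫ ι 𝒮 ⟨U, hU⟩ = (toBase 𝒮 ⁻¹ᵁ U).ι :=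
  IsOpenImmersion.isoOfRangeEq_hom_fac _ _ _

theorem isRelProj : RelProj.IsRelProj 𝒮 (toBase 𝒮) (chart 𝒮) where
  chart_over U hU := by
    rw [← chart_hom_ι 𝒮 U hU, Category.assoc, ι_toBase]
    congr 1
  chart_res U hU r := by
    let U' : Site S := ⟨U, hU⟩
    let i : (U'.basicOpen r) ⟶ U' := homOfLE (U'.basicOpen_le r)
    rw [← cancel_mono (ι 𝒮 U')]
    simp only [Category.assoc]
    rw [chart_hom_ι]
    refine Eq.trans (Scheme.homOfLE_ι _ _) ?_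
    refine Eq.trans (chart_hom_ι 𝒮 (S.basicOpen r) (hU.basicOpen r)).symm ?_
    exact congrArg ((chart 𝒮 (S.basicOpen r) (hU.basicOpen r)).hom ≫ ·) (ι_res 𝒮 i).symm

theorem exists_isRelProj : ∃ (P : Scheme.{u}) (p : P ⟶ S)
      (chart : ∀ (U : S.Opens) (hU : IsAffineOpen U), (((p ⁻¹ᵁ U : P.Opens) : Scheme.{u}) ≅ Proj (𝒮.deg U hU))),
      RelProj.IsRelProj 𝒮 p chart :=
  ⟨proj 𝒮, toBase 𝒮, chart 𝒮, isRelProj 𝒮⟩

end Groth.Agent.RelProjEx
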